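import Groth.Agent.Omega.RankDim
import Mathlib.RingTheory.Etale.Kaehler
import Mathlib.RingTheory.Smooth.Basic
import Mathlib.Algebra.MvPolynomial.Funext

/-!
# A generic combination of differentials vanishes at finitely many closed points
-/

set_option autoImplicit false
set_option linter.style.haveILetI false

universe u

open TensorProduct

namespace Groth.Agent.MovSm

variable {k S : Type u} [Field k] [CommRing S] [Algebra k S] [Algebra.FiniteType k S]
  {N m : ℕ}

/-- At a prime killing the forms `Σ_i g(dy_i)_l c_i`, the transcendence degree is at most `N`. -/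
theorem trdeg_le (y : Fin N → S)
    (hy : Submodule.span S (Set.range fun i => KaehlerDifferential.D k S (y i)) = ⊤)
    (f : (Fin m → S) →ₗ[S] Ω[S⁄k]) (g : Ω[S⁄k] →ₗ[S] Fin m → S) (hfg : f ∘ₗ g = LinearMap.id)
    (P : Ideal (MvPolynomial (Fin N) S)) [P.IsPrime]
    (hP : ∀ l, ∑ i, MvPolynomial.C (g (KaehlerDifferential.D k S (y i)) l) * MvPolynomial.X i ∈ P) :
    Algebra.trdeg k P.ResidueField ≤ (N : Cardinal) := by
  classical
  let q : Ideal S := P.comap (MvPolynomial.C : S →+* MvPolynomial (Fin N) S)
  haveI : q.IsPrime := Ideal.comap_isPrime _ _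
  letI : Algebra q.ResidueField P.ResidueField :=
    (Ideal.ResidueField.map q P MvPolynomial.C rfl).toAlgebra
  haveI : IsScalarTower S q.ResidueField P.ResidueField := IsScalarTower.of_algebraMap_eq fun s => by
    rw [RingHom.algebraMap_toAlgebra, Ideal.ResidueField.map_algebraMap,
      IsScalarTower.algebraMap_apply S (MvPolynomial (Fin N) S) P.ResidueField]
    rfl
  haveI : IsScalarTower k q.ResidueField P.ResidueField := IsScalarTower.of_algebraMap_eq fun a => by
    rw [IsScalarTower.algebraMap_apply k S q.ResidueField, ← IsScalarTower.algebraMap_apply S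
      q.ResidueField P.ResidueField, ← IsScalarTower.algebraMap_apply k S P.ResidueField]
  let V := q.ResidueField ⊗[S] Ω[S⁄k]
  let b : Fin N → V := fun i => (1 : q.ResidueField) ⊗ₜ[S] KaehlerDifferential.D k S (y i)
  have hspan : Submodule.span q.ResidueField (Set.range b) = ⊤ := by
    rw [← Submodule.baseChange_top q.ResidueField (R := S) (M := Ω[S⁄k]), ← hy,
      Submodule.baseChange_span, ← Set.range_comp]
    rfl
  obtain ⟨ι, a, ha, hsp, hli⟩ := exists_linearIndependent' q.ResidueField b
  haveI : Finite ι := Finite.of_injective a ha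
  haveI : Fintype ι := Fintype.ofFinite ι
  let B : Module.Basis ι q.ResidueField V := Module.Basis.mk hli (by rw [hsp, hspan])
  let c : Fin N → P.ResidueField := fun i =>
    algebraMap (MvPolynomial (Fin N) S) P.ResidueField (MvPolynomial.X i)
  let φ : ι → Fin N → q.ResidueField := fun j i => B.repr (b i) j
  -- the relations
  have hrel : ∀ j, ∑ i, c i * algebraMap q.ResidueField P.ResidueField (φ j i) = 0 := by
    intro j
    let ψ : Ω[S⁄k] →ₗ[S] P.ResidueField :=
      (((Algebra.linearMap q.ResidueField P.ResidueField).restrictScalars S) ∘ₗ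
        ((B.coord j).restrictScalars S)) ∘ₗ (TensorProduct.mk S q.ResidueField Ω[S⁄k] 1)
    have hψ : ∀ i, ψ (KaehlerDifferential.D k S (y i)) =
        algebraMap q.ResidueField P.ResidueField (φ j i) := fun i => rfl
    have hexp : ∀ ω : Ω[S⁄k], ψ ω = ∑ l, g ω l • ψ (f ((Pi.single l (1 : S) : Fin m → S))) := fun ω => by
      conv_lhs => rw [show ω = f (g ω) from (LinearMap.congr_fun hfg ω).symm, pi_eq_sum_univ' (g ω)]
      simp only [map_sum, map_smul]
    rw [Finset.sum_congr rfl fun i _ => show c i * algebraMap q.ResidueField P.ResidueField (φ j i) = _ by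
      rw [← hψ i, hexp, Finset.mul_sum]]
    rw [Finset.sum_comm]
    refine Finset.sum_eq_zero fun l _ => ?_
    have h0 : algebraMap (MvPolynomial (Fin N) S) P.ResidueField
        (∑ i, MvPolynomial.C (g (KaehlerDifferential.D k S (y i)) l) * MvPolynomial.X i) = 0 :=
      (Ideal.algebraMap_residueField_eq_zero).2 (hP l)
    calc ∑ i, c i * g (KaehlerDifferential.D k S (y i)) l • ψ (f ((Pi.single l (1 : S) : Fin m → S)))
        = (∑ i, algebraMap S P.ResidueField (g (KaehlerDifferential.D k S (y i)) l) * c i) *
            ψ (f ((Pi.single l (1 : S) : Fin m → S))) := by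
          rw [Finset.sum_mul]
          refine Finset.sum_congr rfl fun i _ => ?_
          rw [Algebra.smul_def]
          ring
      _ = 0 := by
          rw [show (∑ i, algebraMap S P.ResidueField (g (KaehlerDifferential.D k S (y i)) l) * c i) =
            algebraMap (MvPolynomial (Fin N) S) P.ResidueField
              (∑ i, MvPolynomial.C (g (KaehlerDifferential.D k S (y i)) l) * MvPolynomial.X i) by
            simp only [map_sum, map_mul, c]
            refine Finset.sum_congr rfl fun i _ => ?_
            rw [IsScalarTower.algebraMap_apply S (MvPolynomial (Fin N) S) P.ResidueField]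
            rfl, h0, zero_mul]
  let rest : Finset (Fin N) := Finset.univ.filter fun i => i ∉ Set.range a
  let T : Set P.ResidueField := ↑(rest.image c)
  let L := Algebra.adjoin q.ResidueField T
  have hc : ∀ i, c i ∈ L := by
    have hout : ∀ i, i ∉ Set.range a → c i ∈ L := fun i hi =>
      Algebra.subset_adjoin (Finset.mem_coe.2 (Finset.mem_image.2 ⟨i, Finset.mem_filter.2 ⟨Finset.mem_univ _, hi⟩, rfl⟩))
    intro i
    by_cases hi : i ∈ Set.range a
    · obtain ⟨j, rfl⟩ := hi
      have h := hrel j
      rw [← Finset.add_sum_erase _ _ (Finset.mem_univ (a j))] at h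
      have hone : φ j (a j) = 1 := by
        show B.repr (b (a j)) j = 1
        rw [show b (a j) = B j from (Module.Basis.mk_apply hli _ j).symm, B.repr_self,
          Finsupp.single_eq_same]
      rw [hone, map_one, mul_one, add_eq_zero_iff_eq_neg] at h
      rw [h]
      refine L.neg_mem (L.sum_mem fun i hi => ?_)
      by_cases hi' : i ∈ Set.range a
      · obtain ⟨j', rfl⟩ := hi'
        have hne : j ≠ j' := fun h => Finset.ne_of_mem_erase hi (h ▸ rfl)
        have : φ j (a j') = 0 := by
          show B.repr (b (a j')) j = 0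
          rw [show b (a j') = B j' from (Module.Basis.mk_apply hli _ j').symm, B.repr_self,
            Finsupp.single_eq_of_ne hne]
        rw [this, map_zero, mul_zero]
        exact L.zero_mem
      · exact L.mul_mem (hout i hi') (L.algebraMap_mem _)
    · exact hout i hi
  have hL : ∀ p : MvPolynomial (Fin N) S, algebraMap _ P.ResidueField p ∈ L := fun p => by
    induction p using MvPolynomial.induction_on with
    | C s =>
      rw [show (MvPolynomial.C s : MvPolynomial (Fin N) S) = algebraMap S _ s from rfl,
        ← IsScalarTower.algebraMap_apply, IsScalarTower.algebraMap_apply S q.ResidueField P.ResidueField]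
      exact L.algebraMap_mem _
    | add p p' hp hp' => rw [map_add]; exact L.add_mem hp hp'
    | mul_X p i hp => rw [map_mul]; exact L.mul_mem hp (hc i)
  haveI : Algebra.IsAlgebraic L P.ResidueField := ⟨fun z => by
    obtain ⟨u, v, hv, rfl⟩ := IsFractionRing.div_surjective (A := MvPolynomial (Fin N) S ⧸ P) z
    obtain ⟨u, rfl⟩ := Ideal.Quotient.mk_surjective u
    obtain ⟨v, rfl⟩ := Ideal.Quotient.mk_surjective v
    have hu : IsAlgebraic L (algebraMap (MvPolynomial (Fin N) S) P.ResidueField u) :=
      isAlgebraic_algebraMap (⟨_, hL u⟩ : L)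
    have hv' : IsAlgebraic L (algebraMap (MvPolynomial (Fin N) S) P.ResidueField v) :=
      isAlgebraic_algebraMap (⟨_, hL v⟩ : L)
    rw [div_eq_mul_inv]
    exact hu.mul hv'.inv⟩
  have h2 : Algebra.trdeg q.ResidueField P.ResidueField ≤ (rest.card : Cardinal) := by
    refine (Algebra.IsAlgebraic.trdeg_le_cardinalMk q.ResidueField T).trans ?_
    show Cardinal.mk (↥(rest.image c) : Type u) ≤ _
    rw [Cardinal.mk_coe_finset]
    exact_mod_cast Finset.card_image_le
  obtain ⟨t, ht⟩ := Omega.RankDim.exists_trdeg_eq k q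
  have h1 := Omega.RankDim.trdeg_le_rank k q t ht
  have hrank : Omega.RankDim.rank k q = Fintype.card ι := Module.finrank_eq_card_basis B
  have hcard : rest.card + Fintype.card ι = N := by
    have h3 : (Finset.univ.filter fun i => i ∈ Set.range a).card = Fintype.card ι := by
      rw [show (Finset.univ.filter fun i => i ∈ Set.range a) = Finset.univ.image a by ext; simp,
        Finset.card_image_of_injective _ ha, Finset.card_univ]
    have h4 := Finset.card_filter_add_card_filter_not (s := (Finset.univ : Finset (Fin N)))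
      (fun i => i ∈ Set.range a)
    simp only [Finset.card_univ, Fintype.card_fin] at h4
    show (Finset.univ.filter fun i => i ∉ Set.range a).card + _ = N
    omega
  rw [← trdeg_add_eq k q.ResidueField, ht]
  refine le_trans (add_le_add le_rfl h2) ?_
  exact_mod_cast (by omega : t + rest.card ≤ N)

/-- A nonzero relation between the coefficients and a fixed function on the incidence variety. -/
theorem exists_relation (y : Fin N → S)
    (hy : Submodule.span S (Set.range fun i => KaehlerDifferential.D k S (y i)) = ⊤)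
    (f : (Fin m → S) →ₗ[S] Ω[S⁄k]) (g : Ω[S⁄k] →ₗ[S] Fin m → S) (hfg : f ∘ₗ g = LinearMap.id)
    (z : S) :
    ∃ p : MvPolynomial (Option (Fin N)) k, p ≠ 0 ∧
      MvPolynomial.aeval (fun o => Option.elim o (MvPolynomial.C z) MvPolynomial.X) p ∈
        Ideal.span (Set.range fun l => ∑ i, MvPolynomial.C (g (KaehlerDifferential.D k S (y i)) l) *
          MvPolynomial.X i) := by
  let J : Ideal (MvPolynomial (Fin N) S) := Ideal.span (Set.range fun l =>
    ∑ i, MvPolynomial.C (g (KaehlerDifferential.D k S (y i)) l) * MvPolynomial.X i)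
  let θ : MvPolynomial (Option (Fin N)) k →ₐ[k] MvPolynomial (Fin N) S ⧸ J :=
    (Ideal.Quotient.mkₐ k J).comp
      (MvPolynomial.aeval fun o => Option.elim o (MvPolynomial.C z) MvPolynomial.X)
  by_contra hne
  push Not at hne
  have hinj : Function.Injective θ := (injective_iff_map_eq_zero θ).2 fun p hp => by
    by_contra h0
    exact hne p h0 (Ideal.Quotient.eq_zero_iff_mem.1 hp)
  obtain ⟨Q, hQ, hQ0⟩ := Ideal.exists_comap_eq_of_mem_minimalPrimes_of_injective
    (f := θ.toRingHom) hinj ⊥
    (show (⊥ : Ideal (MvPolynomial (Option (Fin N)) k)) ∈ minimalPrimes _ by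
      rw [IsDomain.minimalPrimes_eq_singleton_bot]; rfl)
  haveI := hQ
  let P := Q.comap (Ideal.Quotient.mk J)
  haveI : P.IsPrime := Ideal.comap_isPrime _ _
  have hle := trdeg_le y hy f g hfg P fun l => by
    show Ideal.Quotient.mk J _ ∈ Q
    rw [Ideal.Quotient.eq_zero_iff_mem.2 (show _ ∈ J from Ideal.subset_span (Set.mem_range_self l))]
    exact Q.zero_mem
  let χ : MvPolynomial (Option (Fin N)) k →ₐ[k] P.ResidueField :=
    (IsScalarTower.toAlgHom k (MvPolynomial (Fin N) S) P.ResidueField).comp
      (MvPolynomial.aeval fun o => Option.elim o (MvPolynomial.C z) MvPolynomial.X)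
  have hχ : Function.Injective χ := (injective_iff_map_eq_zero χ).2 fun p hp => by
    have h1 := (Ideal.algebraMap_residueField_eq_zero).1 hp
    have h2 : p ∈ Q.comap θ.toRingHom := h1
    rw [hQ0] at h2
    exact h2
  have h3 := trdeg_le_of_injective χ hχ
  rw [MvPolynomial.trdeg_of_isDomain] at h3
  have h4 := h3.trans hle
  simp at h4

/-- A generic combination of differentials spanning `Ω` vanishes only at finitely many points, all
closed. -/
theorem exists_finite_zero_locus [Module.Projective S Ω[S⁄k]] (y : Fin N → S)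
    (hy : Submodule.span S (Set.range fun i => KaehlerDifferential.D k S (y i)) = ⊤) :
    ∃ h : MvPolynomial (Fin N) k, h ≠ 0 ∧ ∀ c : Fin N → k, MvPolynomial.eval c h ≠ 0 →
      ({q : PrimeSpectrum S | (1 : q.asIdeal.ResidueField) ⊗ₜ[S]
          KaehlerDifferential.D k S (∑ i, c i • y i) = 0}).Finite ∧
      ∀ q : PrimeSpectrum S, (1 : q.asIdeal.ResidueField) ⊗ₜ[S]
          KaehlerDifferential.D k S (∑ i, c i • y i) = 0 → q.asIdeal.IsMaximal := by
  classical
  obtain ⟨m, f, g, -, -, hfg⟩ := Module.Finite.exists_comp_eq_id_of_projective S Ω[S⁄k]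
  obtain ⟨n, π, hπ⟩ := (Algebra.FiniteType.iff_quotient_mvPolynomial'' (R := k) (S := S)).1 inferInstance
  let z : Fin n → S := fun j => π (MvPolynomial.X j)
  choose p hp0 hp using fun j => exists_relation y hy f g hfg (z j)
  let P : Fin n → Polynomial (MvPolynomial (Fin N) k) := fun j =>
    MvPolynomial.optionEquivLeft k (Fin N) (p j)
  refine ⟨∏ j, (P j).leadingCoeff, Finset.prod_ne_zero_iff.2 fun j _ => ?_, fun c hc => ?_⟩
  · exact Polynomial.leadingCoeff_ne_zero.2 fun h => hp0 j
      ((MvPolynomial.optionEquivLeft k (Fin N)).injective (h.trans (map_zero _).symm))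
  have hlead : ∀ j, (P j).map (MvPolynomial.eval c) ≠ 0 := fun j h => by
    refine hc ?_
    rw [map_prod]
    refine Finset.prod_eq_zero (Finset.mem_univ j) ?_
    have := congrArg (fun P' : Polynomial k => P'.coeff (P j).natDegree) h
    simpa [Polynomial.coeff_map] using this
  let Ω' := AlgebraicClosure k
  -- at every bad point the generators are roots
  have hroot : ∀ q : PrimeSpectrum S, (1 : q.asIdeal.ResidueField) ⊗ₜ[S]
      KaehlerDifferential.D k S (∑ i, c i • y i) = 0 →
      ∀ j, Polynomial.aeval (algebraMap S q.asIdeal.ResidueField (z j))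
        ((P j).map (MvPolynomial.eval c)) = 0 := by
    intro q hq j
    let η : MvPolynomial (Fin N) S →ₐ[S] q.asIdeal.ResidueField :=
      MvPolynomial.aeval fun i => algebraMap k q.asIdeal.ResidueField (c i)
    have hker : Ideal.span (Set.range fun l => ∑ i, MvPolynomial.C (g (KaehlerDifferential.D k S (y i)) l) *
        MvPolynomial.X i) ≤ RingHom.ker η := by
      rw [Ideal.span_le]
      rintro _ ⟨l, rfl⟩
      rw [SetLike.mem_coe, RingHom.mem_ker]
      let ψ : Ω[S⁄k] →ₗ[S] q.asIdeal.ResidueField :=
        (Algebra.linearMap S q.asIdeal.ResidueField) ∘ₗ (LinearMap.proj l ∘ₗ g)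
      have h := congrArg (ψ.liftBaseChange q.asIdeal.ResidueField) hq
      rw [map_zero, LinearMap.liftBaseChange_tmul, one_smul, map_sum, map_sum] at h
      rw [← h]
      simp only [map_sum, map_mul, η, MvPolynomial.aeval_C, MvPolynomial.aeval_X]
      refine Finset.sum_congr rfl fun i _ => ?_
      rw [Derivation.map_smul, LinearMap.map_smul_of_tower, Algebra.smul_def, mul_comm]
      rfl
    have h := hker (hp j)
    rw [RingHom.mem_ker] at h
    let w : q.asIdeal.ResidueField := algebraMap S q.asIdeal.ResidueField (z j)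
    have key : ∀ pp : MvPolynomial (Option (Fin N)) k,
        η (MvPolynomial.aeval (fun o => Option.elim o (MvPolynomial.C (z j)) MvPolynomial.X) pp) =
          Polynomial.aeval w ((MvPolynomial.optionEquivLeft k (Fin N) pp).map (MvPolynomial.eval c)) := by
      intro pp
      induction pp using MvPolynomial.induction_on with
      | C a =>
        rw [MvPolynomial.optionEquivLeft_C, Polynomial.map_C, MvPolynomial.eval_C, Polynomial.aeval_C,
          MvPolynomial.aeval_C]
        exact (η.restrictScalars k).commutes a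
      | add p p' hp hp' => rw [map_add, map_add, map_add, Polynomial.map_add, map_add, hp, hp']
      | mul_X p o hp =>
        rw [map_mul, map_mul, map_mul, Polynomial.map_mul, map_mul, hp]
        congr 1
        rcases o with _ | i
        · simp [η, w]
        · simp [η]
    exact (key (p j)).symm.trans h
  have hint : ∀ q : PrimeSpectrum S, (1 : q.asIdeal.ResidueField) ⊗ₜ[S]
      KaehlerDifferential.D k S (∑ i, c i • y i) = 0 →
      Algebra.IsIntegral k (S ⧸ q.asIdeal) := by
    intro q hq
    refine ⟨fun s => ?_⟩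
    obtain ⟨s, rfl⟩ := Ideal.Quotient.mk_surjective s
    obtain ⟨r, rfl⟩ := hπ s
    have hz : ∀ j, IsIntegral k (Ideal.Quotient.mkₐ k q.asIdeal (z j)) := fun j => by
      refine IsAlgebraic.isIntegral ⟨(P j).map (MvPolynomial.eval c), hlead j, ?_⟩
      apply IsFractionRing.injective (S ⧸ q.asIdeal) q.asIdeal.ResidueField
      rw [map_zero, ← Polynomial.aeval_algebraMap_apply]
      exact hroot q hq j
    induction r using MvPolynomial.induction_on with
    | C a =>
      rw [← MvPolynomial.algebraMap_eq, π.commutes]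
      exact (isIntegral_algebraMap (x := a) : IsIntegral k (algebraMap k (S ⧸ q.asIdeal) a))
    | add p p' hp hp' => rw [map_add, map_add]; exact hp.add hp'
    | mul_X p j hp => rw [map_mul, map_mul]; exact hp.mul (hz j)
  have hmax : ∀ q : PrimeSpectrum S, (1 : q.asIdeal.ResidueField) ⊗ₜ[S]
      KaehlerDifferential.D k S (∑ i, c i • y i) = 0 → q.asIdeal.IsMaximal := fun q hq => by
    haveI := hint q hq
    exact Ideal.Quotient.maximal_of_isField _
      (isField_of_isIntegral_of_isField' (R := k) (S := S ⧸ q.asIdeal) (Field.toIsField k))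
  refine ⟨?_, hmax⟩
  have hlift : ∀ q : PrimeSpectrum S, (1 : q.asIdeal.ResidueField) ⊗ₜ[S]
      KaehlerDifferential.D k S (∑ i, c i • y i) = 0 →
      ∃ χ : S →ₐ[k] Ω', RingHom.ker χ = q.asIdeal ∧
        ∀ j, χ (z j) ∈ (((P j).map (MvPolynomial.eval c) : Polynomial k).rootSet Ω') := by
    intro q hq
    haveI := hint q hq
    haveI : (⊥ : Ideal (S ⧸ q.asIdeal)).IsMaximal := by
      haveI := hmax q hq
      letI := Ideal.Quotient.field q.asIdeal
      exact Ideal.bot_isMaximal
    haveI := hmax q hq
    letI := Ideal.Quotient.field q.asIdeal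
    let ι₀ : (S ⧸ q.asIdeal) →ₐ[k] Ω' := IsAlgClosed.lift
    refine ⟨ι₀.comp (Ideal.Quotient.mkₐ k q.asIdeal), ?_, fun j => ?_⟩
    · ext s
      rw [RingHom.mem_ker]
      show ι₀ (Ideal.Quotient.mk q.asIdeal s) = 0 ↔ _
      rw [map_eq_zero, Ideal.Quotient.eq_zero_iff_mem]
    · rw [Polynomial.mem_rootSet]
      refine ⟨hlead j, ?_⟩
      rw [AlgHom.comp_apply, Polynomial.aeval_algHom_apply]
      have : Polynomial.aeval (Ideal.Quotient.mkₐ k q.asIdeal (z j))
          ((P j).map (MvPolynomial.eval c)) = 0 := by
        apply IsFractionRing.injective (S ⧸ q.asIdeal) q.asIdeal.ResidueField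
        rw [map_zero, ← Polynomial.aeval_algebraMap_apply]
        exact hroot q hq j
      rw [this, map_zero]
  have hfinHom : {χ : S →ₐ[k] Ω' | ∀ j, χ (z j) ∈ (((P j).map (MvPolynomial.eval c) : Polynomial k).rootSet Ω')}.Finite := by
    apply Set.Finite.of_finite_image (f := fun (χ : S →ₐ[k] Ω') j => χ (z j))
    · refine (Set.Finite.pi fun j =>
        ((P j).map (MvPolynomial.eval c) : Polynomial k).rootSet_finite Ω').subset ?_
      rintro _ ⟨χ, hχ, rfl⟩ j -
      exact hχ j
    · intro χ _ χ' _ h
      apply (AlgHom.cancel_right hπ).1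
      exact MvPolynomial.algHom_ext fun j => congr_fun h j
  refine (hfinHom.image fun χ => (⟨RingHom.ker χ, RingHom.ker_isPrime _⟩ : PrimeSpectrum S)).subset ?_
  intro q hq
  obtain ⟨χ, hχ, hz⟩ := hlift q hq
  exact ⟨χ, hz, PrimeSpectrum.ext hχ⟩

end Groth.Agent.MovSm
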